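import Cfsg.Agent.H209.PiSpor.Tools
import Cfsg.Agent.S3829
import Cfsg.Agent.S0205

/-!
# S4324, sporadic rows: elements of prime order at least 5 (helper69)

* `exists_involution` : in a nonabelian simple group two conjugates of an element of prime order `p ≥ 5` generate a group of
  even order (S3829, S0205);
* `ni_of_zp` : two classes of involutions `z`, `t` with `y t y⁻¹ = z t`; if `s` divides the order of a product of two
  conjugates of `z`, then `NI s p` for all `p ≥ 5`.
-/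

set_option autoImplicit false

namespace Cfsg.Agent.H69.MOddOf

open Subgroup Cfsg Cfsg.Agent.H216.Pi Cfsg.Agent.H209.PiSpor

variable {G : Type*} [Group G] [Finite G] [IsSimpleGroup G]

theorem exists_not_solvable (hna : ¬ IsMulCommutative G) {p : ℕ} (hp : p.Prime) (hp5 : 5 ≤ p) {g : G}
    (hg : orderOf g = p) : ∃ a : G, ¬ Group.IsSolvable ↥(closure ({g, a * g * a⁻¹} : Set G)) := by
  have : Fact p.Prime := ⟨hp⟩
  by_contra hcon
  push Not at hcon
  have h1 : g ∈ solvableRadical G := (S3829.result hp5 g hg).2 hcon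
  rcases (inferInstance : (solvableRadical G).Normal).eq_bot_or_eq_top with h2 | h2
  · rw [h2, mem_bot] at h1
    rw [h1, orderOf_one] at hg
    exact hp.one_lt.ne hg
  · have h3 := H459.Rad.rad_eq_top_iff.1 h2
    exact hna ⟨⟨IsSimpleGroup.comm_iff_isSolvable.2 h3⟩⟩

/-- **two conjugates generate a group of even order** -/
theorem exists_involution (hna : ¬ IsMulCommutative G) {p : ℕ} (hp : p.Prime) (hp5 : 5 ≤ p) {g : G}
    (hg : orderOf g = p) : ∃ i : G, orderOf i = 2 ∧ H216.Pi.InC 2 (MulAut.conj g) (MulAut.conj i) := by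
  obtain ⟨a, ha⟩ := exists_not_solvable hna hp hp5 hg
  have h2 : 2 ∣ Nat.card ↥(closure ({g, a * g * a⁻¹} : Set G)) := by
    by_contra hodd
    exact ha (S0205.result (Nat.not_even_iff_odd.1 fun h => hodd h.two_dvd))
  have : Fact (Nat.Prime 2) := ⟨Nat.prime_two⟩
  obtain ⟨i, hi⟩ := exists_prime_orderOf_dvd_card' 2 h2
  refine ⟨i, by rw [Subgroup.orderOf_coe, hi], ![1, a], ?_⟩
  have h3 : (closure ({g, a * g * a⁻¹} : Set G)).map (MulAut.conj : G →* MulAut G) ≤
      closure (Set.range fun j => cj (MulAut.conj g) (![1, a] j)) := by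
    rw [MonoidHom.map_closure, closure_le]
    rintro _ ⟨x, hx, rfl⟩
    rcases hx with rfl | rfl
    · exact subset_closure ⟨0, by simp [cj_conj]⟩
    · exact subset_closure ⟨1, by simp [cj_conj]⟩
  exact h3 ⟨i, i.2, rfl⟩

/-- **The kill.** -/
theorem ni_of_zp (hna : ¬ IsMulCommutative G) {z t y : G} (ht : t * t = 1) (hy : y * t * y⁻¹ = z * t)
    (two : ∀ u : G, u * u = 1 → u ≠ 1 → (∃ g, g * z * g⁻¹ = u) ∨ ∃ g, g * t * g⁻¹ = u) {s p : ℕ} (hp : p.Prime)
    (hp5 : 5 ≤ p) (hzp : ∃ g h : G, s ∣ orderOf (g * z * g⁻¹ * (h * z * h⁻¹))) : NI s p G := by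
  intro g hg _ hFC
  have hcen : center G = ⊥ := by
    rcases (inferInstance : (center G).Normal).eq_bot_or_eq_top with h | h
    · exact h
    · exact (hna ⟨⟨fun a b => ((mem_center_iff.1 (h ▸ mem_top b : b ∈ center G)) a)⟩⟩).elim
  obtain ⟨i, hi, hgi⟩ := exists_involution hna hp hp5 hg
  have hii : i * i = 1 := by rw [← pow_two, ← hi, pow_orderOf_eq_one]
  have hi1 : i ≠ 1 := by rintro rfl; rw [orderOf_one] at hi; exact absurd hi (by norm_num)
  -- conjugates of `i`
  have hcj : ∀ k u : G, k * u * k⁻¹ = i → H216.Pi.InC 1 (MulAut.conj i) (MulAut.conj u) := by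
    intro k u hk
    have h1 := H216.Pi.InC.cj_self (MulAut.conj i) k⁻¹
    rw [cj_conj, ← hk] at h1
    have h2 : k⁻¹ * (k * u * k⁻¹) * k⁻¹⁻¹ = u := by group
    rwa [h2, hk] at h1
  have hz4 : H216.Pi.InC 4 (MulAut.conj g) (MulAut.conj z) := by
    rcases two i hii hi1 with ⟨k, hk⟩ | ⟨k, hk⟩
    · exact (hgi.trans (hcj k z hk)).mono (by norm_num)
    · have h1 := hgi.trans (hcj k t hk)
      have h2 : H216.Pi.InC (1 + 1) (MulAut.conj t) (MulAut.conj z) := by
        have h3 : z = (y * t * y⁻¹) * t := by rw [hy, mul_assoc, ht, mul_one]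
        rw [h3, map_mul, ← cj_conj]
        exact (H216.Pi.InC.cj_self _ _).mul (H216.Pi.InC.self _)
      exact (h1.trans h2).mono (by norm_num)
  obtain ⟨a, b, hab⟩ := hzp
  have h2 : H216.Pi.InC (1 + 1) (MulAut.conj z) (MulAut.conj (a * z * a⁻¹ * (b * z * b⁻¹))) := by
    rw [map_mul, ← cj_conj, ← cj_conj]
    exact (H216.Pi.InC.cj_self _ _).mul (H216.Pi.InC.cj_self _ _)
  have h3 := hFC _ ((hz4.trans h2).mono (le_trans (by norm_num) (mm_ge s)))
  apply h3
  rw [orderOf_injective (MulAut.conj : G →* MulAut G) (conj_inj hcen)]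
  exact hab

end Cfsg.Agent.H69.MOddOf
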