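import Cfsg.Agent.H69.PiSpor.MReal
import Cfsg.Agent.H69.PiSpor.MThree
import Cfsg.Agent.H69.PiSpor.MOddOf
import Cfsg.Agent.H109.PiSpor.MTwo

/-!
# S4324, sporadic rows: the elements of odd prime order of the Monster (helper69; task 4588 of helper209)

`ni_M_odd`. For `p = 3` see `MThree.lean`. For `p ≥ 5` two conjugates generate a group which is not solvable (S3829), so they
generate an involution; it is conjugate to `z` (class 2B) or `t` (class 2A), and `z` is a product of two conjugates of `t`; two
conjugates of `z` generate an element of order divisible by `s` (`MReal.zp`). Together at most `8 ≤ 11` conjugates.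
-/

set_option autoImplicit false
set_option maxRecDepth 100000

namespace Cfsg.Agent.H69.PiSpor

open Subgroup Cfsg Cfsg.Agent.H216.Pi Cfsg.Agent.H209.PiSpor
open Cfsg.Agent.MonsterX Cfsg.Agent.MonsterX.MainPack Cfsg.Agent.MonsterX.MainSimple Cfsg.Agent.MonsterX.MainBasic
open Cfsg.Agent.MonsterU.Assembly Cfsg.Agent.MonsterP Cfsg.Agent.MonsterU Cfsg.Agent.MonsterX.Model

universe u

theorem not_comm_model : ¬ IsMulCommutative ↥InstData.M.G := by
  intro hc
  have hfin := MFive.Row.finite_model
  have hsim := MFive.Row.simple_model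
  let _ : CommGroup ↥InstData.M.G :=
    { (inferInstance : Group ↥InstData.M.G) with mul_comm := fun a b => hc.is_comm.comm a b }
  have h2 : (Nat.card ↥InstData.M.G).Prime := IsSimpleGroup.prime_card
  rw [Cfsg.Agent.MonsterP.EquivOf.isM_model.2] at h2
  revert h2
  norm_num

/-- the elements of prime order at least 5 of the model -/
theorem ni_model_ge {s p : ℕ} (hs : s = 3 ∨ s = 5 ∨ s = 7 ∨ s = 11 ∨ s = 13) (hp : p.Prime) (hp5 : 5 ≤ p) :
    NI s p ↥InstData.M.G := by
  have hfin := MFive.Row.finite_model
  have hsim := MFive.Row.simple_model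
  have hG := KDone.mGroup
  have hR := KDone.mRep
  obtain ⟨y, hy, -, hy1⟩ := MainBasic.exists_y hG hR
  refine MOddOf.ni_of_zp not_comm_model (z := KDone.K.z) (t := tG KDone.mGroup KDone.mRep)
    (y := ⟨y, C_le (hG.Q_le hy)⟩) ?_ ?_ MFive.Row.two hp hp5 (MReal.zp hs)
  · exact Subtype.ext KDone.mRep.t₀_sq
  · rw [← MFive.Model.z_eq KDone.lnk KDone.mGroup]
    exact Subtype.ext hy1

/-- **The elements of odd prime order of the Monster.** -/
theorem ni_M_odd {K : Type u} [Group K] [Finite K] (h : Spor.IsoM K) {s p : ℕ}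
    (hs : s = 3 ∨ s = 5 ∨ s = 7 ∨ s = 11 ∨ s = 13) (hp : p.Prime) (hp2 : p ≠ 2) (hps : p ≠ s) : NI s p K := by
  obtain ⟨e⟩ := h
  obtain ⟨f⟩ := MonsterP.Equiv.equiv
  have hfin := MFive.Row.finite_model
  refine NI.congr (e.trans f).symm ?_
  rcases (show p = 3 ∨ 5 ≤ p by
    have h2 := hp.two_le
    by_cases h4 : p = 4
    · subst h4
      exact absurd hp (by norm_num)
    · omega) with rfl | hp5
  · rcases hs with rfl | rfl | rfl | rfl | rfl
    · exact absurd rfl hps
    · exact MThree.ni_model (by norm_num) (by norm_num) (by norm_num)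
    · exact MThree.ni_model (by norm_num) (by norm_num) (by norm_num)
    · exact MThree.ni_model (by norm_num) (by norm_num) (by norm_num)
    · exact MThree.ni_model (by norm_num) (by norm_num) (by norm_num)
  · exact ni_model_ge hs hp hp5

end Cfsg.Agent.H69.PiSpor
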